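import Mathlib.CategoryTheory.Monoidal.Cartesian.Grp
import Mathlib.CategoryTheory.Limits.Shapes.Pullback.IsPullback.Basic

/-!
# Some cartesian squares of products in a cartesian monoidal category
-/

set_option autoImplicit false

open CategoryTheory CategoryTheory.Limits MonoidalCategory CartesianMonoidalCategory MonObj

namespace K232.CatSq

universe v u

variable {C : Type u} [Category.{v} C] [CartesianMonoidalCategory C]

section

variable (A B D : C)

/-- `(x, y, z) ↦ (x, y)` -/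
abbrev t12 : A ⊗ (B ⊗ D) ⟶ A ⊗ B := lift (fst _ _) (snd _ _ ≫ fst _ _)

/-- `(x, y, z) ↦ (y, z)` -/
abbrev t23 : A ⊗ (B ⊗ D) ⟶ B ⊗ D := snd _ _

/-- `(x, y, z) ↦ (x, z)` -/
abbrev t13 : A ⊗ (B ⊗ D) ⟶ A ⊗ D := lift (fst _ _) (snd _ _ ≫ snd _ _)

theorem sq12 : IsPullback (t12 A B D) (t23 A B D) (snd A B) (fst B D) := by
  refine ⟨⟨by simp⟩, ⟨PullbackCone.IsLimit.mk _ (fun s => lift (s.fst ≫ fst _ _) s.snd) ?_ ?_ ?_⟩⟩
  · intro s
    have h := s.condition
    ext
    · simp
    · simpa using h.symm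
  · intro s
    simp
  · intro s m h1 h2
    ext
    · simpa using congrArg (· ≫ fst A B) h1
    · simpa using congrArg (· ≫ fst B D) h2
    · simpa using congrArg (· ≫ snd B D) h2

end

section

variable (A B : C) [GrpObj A]

/-- `(x, y, z) ↦ (x + z, y)` -/
abbrev mm : A ⊗ (B ⊗ A) ⟶ A ⊗ B := lift (fst _ _ * (snd _ _ ≫ snd _ _)) (snd _ _ ≫ fst _ _)

theorem sqM : IsPullback (mm A B) (t13 A B A) (fst A B) (fst A A * snd A A) := by
  refine ⟨⟨by simp [MonObj.comp_mul]⟩, ⟨PullbackCone.IsLimit.mk _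
    (fun s => lift (s.snd ≫ fst _ _) (lift (s.fst ≫ snd _ _) (s.snd ≫ snd _ _))) ?_ ?_ ?_⟩⟩
  · intro s
    have h := s.condition
    ext
    · simpa [MonObj.comp_mul] using h.symm
    · simp
  · intro s
    ext <;> simp
  · intro s m h1 h2
    ext
    · simpa using congrArg (· ≫ fst A A) h2
    · simpa using congrArg (· ≫ snd A B) h1
    · simpa using congrArg (· ≫ snd A A) h2

theorem sqj : IsPullback (toUnit A) (lift (𝟙 A) (𝟙 A)⁻¹) η[A] (fst A A * snd A A) := by
  refine ⟨⟨?_⟩, ⟨PullbackCone.IsLimit.mk _ (fun s => s.snd ≫ fst _ _) ?_ ?_ ?_⟩⟩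
  · rw [MonObj.comp_mul, lift_fst, lift_snd, mul_inv_cancel]
    rfl
  · intro s
    exact toUnit_unique _ _
  · intro s
    have h := s.condition
    ext
    · simp
    · have h1 : s.fst ≫ η[A] = 1 := by
        rw [toUnit_unique s.fst (toUnit _)]
        rfl
      rw [h1, MonObj.comp_mul] at h
      rw [Category.assoc, lift_snd, GrpObj.comp_inv, Category.comp_id]
      exact (eq_inv_of_mul_eq_one_right h.symm).symm
  · intro s m h1 h2
    simpa using congrArg (· ≫ fst A A) h2

end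

end K232.CatSq
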