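import Mathlib.CategoryTheory.ObjectProperty.FullSubcategory
import Mathlib.CategoryTheory.ObjectProperty.ClosedUnderIsomorphisms
import Mathlib.CategoryTheory.Equivalence

/-!
# Criteria for equivalences of full subcategories
-/

set_option autoImplicit false

open CategoryTheory

namespace K232.EquivAbs

/-- A functor with composites on both sides equivalences is an equivalence. -/
theorem isEquivalence_of_comp {C D : Type*} [Category C] [Category D] (F : C ⥤ D) (G : D ⥤ C)
    (h1 : (F ⋙ G).IsEquivalence) (h2 : (G ⋙ F).IsEquivalence) : F.IsEquivalence := by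
  have f1 : F.Faithful := Functor.Faithful.of_comp F G
  have f2 : G.Faithful := Functor.Faithful.of_comp G F
  have f3 : F.Full := ⟨fun {X Y} g => by
    obtain ⟨f, hf⟩ := (F ⋙ G).map_surjective (G.map g)
    exact ⟨f, G.map_injective hf⟩⟩
  have f4 : F.EssSurj := ⟨fun Y => ⟨G.obj ((G ⋙ F).objPreimage Y), ⟨(G ⋙ F).objObjPreimageIso Y⟩⟩⟩
  exact { }

/-- A functor on a full subcategory which is the restriction of an autoequivalence. -/
theorem isEquivalence_of_ι {C : Type*} [Category C] (P : ObjectProperty C) (T : C ⥤ C) [T.IsEquivalence]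
    (hT : ∀ X, P (T.obj X) → P X) [P.IsClosedUnderIsomorphisms] (H : P.FullSubcategory ⥤ P.FullSubcategory)
    (e : H ⋙ P.ι ≅ P.ι ⋙ T) : H.IsEquivalence := by
  have f1 : H.Faithful := Functor.Faithful.of_comp_iso e
  have f2 : H.Full := Functor.Full.of_comp_faithful_iso e
  have f3 : H.EssSurj := ⟨fun Y => by
    have h1 : P (T.objPreimage Y.obj) := hT _ (P.prop_of_iso (T.objObjPreimageIso Y.obj).symm Y.property)
    exact ⟨⟨T.objPreimage Y.obj, h1⟩, ⟨P.ι.preimageIso (e.app ⟨T.objPreimage Y.obj, h1⟩ ≪≫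
      T.objObjPreimageIso Y.obj)⟩⟩⟩
  exact { }

end K232.EquivAbs
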