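import Groth.Agent.PerfC.RpushSingle
import Groth.Agent.Dual.H360.ProjAff

/-!
# Derived direct images concentrated in one degree
-/

set_option autoImplicit false

universe u

open CategoryTheory CategoryTheory.Limits AlgebraicGeometry DerivedCategory

attribute [local instance] HasDerivedCategory.standard

namespace K232.FMConc

/-- An object with a single cohomology object. -/
theorem nonempty_iso_of_conc {C : Type*} [Category C] [Abelian C] [HasDerivedCategory C]
    (K : DerivedCategory C) (n : ℤ) (h : ∀ i : ℤ, i ≠ n → IsZero ((homologyFunctor C i).obj K)) :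
    Nonempty (K ≅ ((singleFunctor C 0).obj ((homologyFunctor C n).obj K))⟦-n⟧) := by
  have h1 : K.IsGE n := by
    rw [isGE_iff]
    exact fun i hi => h i (by omega)
  have h2 : K.IsLE n := by
    rw [isLE_iff]
    exact fun i hi => h i (by omega)
  obtain ⟨M, ⟨e⟩⟩ := exists_iso_singleFunctor_obj_of_isGE_of_isLE K n
  let e1 : (homologyFunctor C n).obj K ≅ M :=
    (homologyFunctor C n).mapIso e ≪≫ (singleFunctorCompHomologyFunctorIso C n).app M
  exact ⟨e ≪≫ (((singleFunctors C).shiftIso (-n) n 0 (by omega)).app M).symm ≪≫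
    (shiftFunctor _ (-n)).mapIso ((singleFunctor C 0).mapIso e1.symm)⟩

variable {W Y : Scheme.{u}}

theorem rpush_conc (q : W ⟶ Y) [DCoh.HasRpush q] [HasInjectiveResolutions W.Modules] (M : W.Modules) (g : ℕ)
    (h0 : ∀ i : ℕ, i ≠ g → IsZero ((Coh.Rpush q i).obj M)) (N : Y.Modules)
    (e : (Coh.Rpush q g).obj M ≅ N) :
    Nonempty ((DCoh.Rpush q).obj (DCoh.inD W M) ≅ (DCoh.inD Y N)⟦-(g : ℤ)⟧) := by
  obtain ⟨i⟩ := nonempty_iso_of_conc ((DCoh.Rpush q).obj (DCoh.inD W M)) g (fun i hi => by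
    rcases lt_or_ge i 0 with h | h
    · exact Groth.Agent.PerfC.RpushSingle.isZero_of_neg q M i h
    · obtain ⟨n, rfl⟩ := Int.eq_ofNat_of_zero_le h
      exact (h0 n (by omega)).of_iso (Groth.Agent.PerfC.RpushSingle.iso q n M))
  exact ⟨i ≪≫ (shiftFunctor _ (-(g : ℤ))).mapIso ((singleFunctor _ 0).mapIso
    (Groth.Agent.PerfC.RpushSingle.iso q g M ≪≫ e))⟩

/-- The form used for the Poincaré module: `Rq_* M = (Re_* N)[-g]` for a closed immersion `e`. -/
theorem rpush_conc' (q : W ⟶ Y) [DCoh.HasRpush q] [HasInjectiveResolutions W.Modules] (M : W.Modules) (g : ℕ)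
    (h0 : ∀ i : ℕ, i ≠ g → IsZero ((Coh.Rpush q i).obj M)) {E : Scheme.{u}} (e₀ : E ⟶ Y) [IsAffineHom e₀]
    [DCoh.HasRpush e₀] (N : E.Modules) (hN : Coh.IsQCoh N) (e : (Coh.Rpush q g).obj M ≅ (Coh.push e₀).obj N) :
    Nonempty ((DCoh.Rpush q).obj (DCoh.inD W M) ≅ ((DCoh.Rpush e₀).obj (DCoh.inD E N))⟦-(g : ℤ)⟧) := by
  obtain ⟨i⟩ := rpush_conc q M g h0 _ e
  obtain ⟨j⟩ := Groth.Agent.Dual.H360.ProjAff.nonempty_rpushInD e₀ N hN
  exact ⟨i ≪≫ (shiftFunctor _ (-(g : ℤ))).mapIso j.symm⟩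

end K232.FMConc
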