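import Groth.Agent.AbVar.K232.FMPush
import Groth.Agent.AbDual.K732.Bidual
import Groth.Agent.AbVar.K232.CatSq
import Groth.Agent.AbVar.K512.PoincId
import Groth.Agent.AbVar.K512.AV
import Groth.Agent.Sga3C.HomInf
import Groth.Agent.AbVar.K232.EquivAbs
import Groth.Agent.AbVar.K232.FMConc

/-!
# Mukai's theorem, reduced to the direct image of the Poincaré module
-/

set_option autoImplicit false

universe u

open CategoryTheory CategoryTheory.Limits MonoidalCategory CartesianMonoidalCategory MonObj GrpObj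
  AlgebraicGeometry

attribute [local instance] HasDerivedCategory.standard

namespace K232.FMAV

open Groth.Agent Groth.Agent.Grpsch.PicGrp Groth.Agent.Fga.RigGrp K732.PicZero K732.RigSheaf
  K732.Dual K732.Transp K732.CubeSec K732.Prim K732.Bidual K353.OnSub K353.Calc K353.Conv K232.CatSq

section Class

variable {S : Scheme.{u}} [IsLocallyNoetherian S] {A At : Over S} [GrpObj A] [GrpObj At]
  [IsProper A.hom] [Flat A.hom] [LocallyOfFinitePresentation A.hom] [GeometricallyIntegral A.hom]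
  {φ : ∀ T : Over S, PicF.Cl (PicF.XT A.hom T) → (T ⟶ At)}
  (hD : AbDual.IsDualAV Scheme.fppfPrecoverage A At φ)
  {ξ : Pic (PicF.XT A.hom At)} (h1 : ξ ∈ pz A.hom At) (h2 : ξ ∈ rg A At) (h3 : cm φ ξ = 𝟙 At)

include hD h1 h2 h3

/-- `t₁₂^* ξ · t₂₃^* ξ' = M^* ξ` on `A × At × A`. -/
theorem pull_mm [LocallyOfFiniteType At.hom] [GeometricallyConnected At.hom] :
    pull (t12 A At A).left ξ * pull (t23 A At A).left (sw A At ξ) = pull (mm A At).left ξ := by
  have e1 : pull (t12 A At A).left ξ = ev (fst A (At ⊗ A)) (snd A (At ⊗ A) ≫ fst At A) ξ := rfl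
  have e2 : pull (t23 A At A).left (sw A At ξ) =
      ev (snd A (At ⊗ A) ≫ snd At A) (snd A (At ⊗ A) ≫ fst At A) ξ := by
    rw [← ev_sw, ev_def]
    congr 2
    ext <;> simp
  have e3 : pull (mm A At).left ξ =
      ev (fst A (At ⊗ A) * (snd A (At ⊗ A) ≫ snd At A)) (snd A (At ⊗ A) ≫ fst At A) ξ := rfl
  rw [e1, e2, e3, poinc_mul hD h1 h2 h3]

omit [IsLocallyNoetherian S] in
/-- `t₁₂^* ξ' · t₂₃^* ξ = M^* ξ'` on `At × A × At`. -/
theorem pull_mm' :
    pull (t12 At A At).left (sw A At ξ) * pull (t23 At A At).left ξ = pull (mm At A).left (sw A At ξ) := by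
  have e1 : pull (t12 At A At).left (sw A At ξ) = ev (snd At (A ⊗ At) ≫ fst A At) (fst At (A ⊗ At)) ξ := by
    rw [← ev_sw, ev_def]
  have e2 : pull (t23 At A At).left ξ =
      ev (snd At (A ⊗ At) ≫ fst A At) (snd At (A ⊗ At) ≫ snd A At) ξ := by
    rw [ev_def]
    congr 2
    ext <;> simp
  have e3 : pull (mm At A).left (sw A At ξ) =
      ev (snd At (A ⊗ At) ≫ fst A At) (fst At (A ⊗ At) * (snd At (A ⊗ At) ≫ snd A At)) ξ := by
    rw [← ev_sw, ev_def]
  rw [e1, e2, e3, K512.PoincId.ev_mul_right hD h1 h2 h3]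

end Class

section Main

variable {k : Type u} [Field k] {A At : Over (Spec (CommRingCat.of k))} [GrpObj A] [IsProper A.hom]
  [Smooth A.hom] [GeometricallyConnected A.hom] [GrpObj At] [IsProper At.hom] [Smooth At.hom]
  [GeometricallyConnected At.hom]

/-- The exchanged Poincaré module. -/
noncomputable abbrev swp (P : (pullback A.hom At.hom).Modules) : (pullback At.hom A.hom).Modules :=
  (Scheme.Modules.pullback (pullbackSymmetry At.hom A.hom).hom).obj P

omit [GrpObj A] [IsProper A.hom] [Smooth A.hom] [GeometricallyConnected A.hom] [GrpObj At] [IsProper At.hom]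
  [Smooth At.hom] [GeometricallyConnected At.hom] in
theorem inv_swp {P : (pullback A.hom At.hom).Modules} (hP : PicF.IsInvertible P) : PicF.IsInvertible (swp P) :=
  Fdesc.LocGen.isInvertible_pullback _ hP

variable {φ : ∀ T : Over (Spec (CommRingCat.of k)), PicF.Cl (PicF.XT A.hom T) → (T ⟶ At)}
  (hφ : AbDual.IsDualAV Scheme.fppfPrecoverage A At φ)
  {P : (pullback A.hom At.hom).Modules} (hP : PicF.IsInvertible P)
  (hPξ : AbDual.IsPoincareCl A At φ (PicF.cl P))

include hφ hP hPξ in
theorem nonempty_mm : Nonempty (CohB1.tensorMod ((Scheme.Modules.pullback (t12 A At A).left).obj P)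
    ((Scheme.Modules.pullback (t23 A At A).left).obj (swp P)) ≅
      (Scheme.Modules.pullback (mm A At).left).obj P) := by
  have := K732.AV.geomInt A
  obtain ⟨ζ, h1, h2, h3, h4⟩ := K732.AV.exists_of_isPoincareCl hPξ
  have e : ζ = mk P hP := toCl_injective h4
  subst e
  have h := pull_mm hφ h1 h2 h3
  exact (mk_eq_iff _ _).1 h

include hφ hP hPξ in
theorem nonempty_mm' : Nonempty (CohB1.tensorMod ((Scheme.Modules.pullback (t12 At A At).left).obj (swp P))
    ((Scheme.Modules.pullback (t23 At A At).left).obj P) ≅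
      (Scheme.Modules.pullback (mm At A).left).obj (swp P)) := by
  have := K732.AV.geomInt A
  obtain ⟨ζ, h1, h2, h3, h4⟩ := K732.AV.exists_of_isPoincareCl hPξ
  have e : ζ = mk P hP := toCl_injective h4
  subst e
  have h := pull_mm' hφ h1 h2 h3
  exact (mk_eq_iff _ _).1 h

omit [IsProper A.hom] [Smooth A.hom] [GeometricallyConnected A.hom] in
theorem inv_comp_inv : ((𝟙 A)⁻¹).left ≫ ((𝟙 A)⁻¹).left = 𝟙 A.left := by
  rw [← Over.comp_left, GrpObj.comp_inv, Category.comp_id, _root_.inv_inv]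
  rfl

omit [IsProper A.hom] [GeometricallyConnected A.hom] in
theorem flat_mul : Flat (fst A A * snd A A).left := by
  have h : fst A A * snd A A = μ[A] := by
    rw [Hom.mul_def, lift_fst_snd, Category.id_comp]
  rw [h]
  exact Sga3C.HomInf.flat_mul (G := A)

include hφ hP hPξ in
/-- **Mukai's theorem**, modulo the direct image of `P` on `A`. -/
theorem mukai (n : ℤ)
    [DCoh.HasLpull (pullback.fst A.hom At.hom)] [DCoh.HasRpush (pullback.snd A.hom At.hom)]
    [DCoh.HasLpull (pullback.fst At.hom A.hom)] [DCoh.HasRpush (pullback.snd At.hom A.hom)]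
    [DCoh.HasRpush (pullback.fst A.hom At.hom)] [DCoh.HasRpush η[A].left] [DCoh.HasLpull ((𝟙 A)⁻¹).left]
    (hR : Nonempty ((DCoh.Rpush (pullback.fst A.hom At.hom)).obj (DCoh.inD _ P) ≅
      ((DCoh.Rpush η[A].left).obj (DCoh.inD _ (Coh.structureModule (Spec (CommRingCat.of k)))))⟦n⟧)) :
    IsoOn (qc A.left)
      (fm (pullback.fst A.hom At.hom) (pullback.snd A.hom At.hom) (DCoh.inD _ P) ⋙
        fm (pullback.fst At.hom A.hom) (pullback.snd At.hom A.hom) (DCoh.inD _ (swp P)))
      (DCoh.Lpull ((𝟙 A)⁻¹).left ⋙ shiftFunctor (DCoh.D A.left) n) := by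
  have i1 : Flat (fst A A * snd A A).left := flat_mul
  obtain ⟨e⟩ := nonempty_mm hφ hP hPξ
  have s1 : IsPullback (t12 A At A).left (t23 A At A).left (pullback.snd A.hom At.hom)
      (pullback.fst At.hom A.hom) := (sq12 A At A).map (Over.forget _)
  have s2 : IsPullback (mm A At).left (t13 A At A).left (pullback.fst A.hom At.hom)
      (fst A A * snd A A).left := (sqM A At).map (Over.forget _)
  have s3 : IsPullback (toUnit A).left (lift (𝟙 A) (𝟙 A)⁻¹).left η[A].left (fst A A * snd A A).left :=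
    (sqj A).map (Over.forget _)
  refine FMInv.comp_main (W := pullback A.hom At.hom) (W' := pullback At.hom A.hom) s1 (v₁ := (fst A A).left) (v₂ := (snd A A).left) s2 ?_ ?_ s3 ?_ ?_ inv_comp_inv hP
    (inv_swp hP) e n hR
  · exact congrArg CommaMorphism.left (show t13 A At A ≫ fst A A = t12 A At A ≫ fst A At by simp)
  · exact congrArg CommaMorphism.left (show t13 A At A ≫ snd A A = t23 A At A ≫ snd At A by simp)
  · exact congrArg CommaMorphism.left (show lift (𝟙 A) (𝟙 A)⁻¹ ≫ fst A A = 𝟙 A by simp)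
  · exact congrArg CommaMorphism.left (show lift (𝟙 A) (𝟙 A)⁻¹ ≫ snd A A = (𝟙 A)⁻¹ by simp)

include hφ hP hPξ in
/-- **Mukai's theorem**, the other composite, modulo the direct image of `P` on `At`. -/
theorem mukai' (n : ℤ)
    [DCoh.HasLpull (pullback.fst A.hom At.hom)] [DCoh.HasRpush (pullback.snd A.hom At.hom)]
    [DCoh.HasLpull (pullback.fst At.hom A.hom)] [DCoh.HasRpush (pullback.snd At.hom A.hom)]
    [DCoh.HasRpush (pullback.fst At.hom A.hom)] [DCoh.HasRpush η[At].left] [DCoh.HasLpull ((𝟙 At)⁻¹).left]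
    (hR : Nonempty ((DCoh.Rpush (pullback.fst At.hom A.hom)).obj (DCoh.inD _ (swp P)) ≅
      ((DCoh.Rpush η[At].left).obj (DCoh.inD _ (Coh.structureModule (Spec (CommRingCat.of k)))))⟦n⟧)) :
    IsoOn (qc At.left)
      (fm (pullback.fst At.hom A.hom) (pullback.snd At.hom A.hom) (DCoh.inD _ (swp P)) ⋙
        fm (pullback.fst A.hom At.hom) (pullback.snd A.hom At.hom) (DCoh.inD _ P))
      (DCoh.Lpull ((𝟙 At)⁻¹).left ⋙ shiftFunctor (DCoh.D At.left) n) := by
  have i1 : Flat (fst At At * snd At At).left := flat_mul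
  obtain ⟨e⟩ := nonempty_mm' hφ hP hPξ
  have s1 : IsPullback (t12 At A At).left (t23 At A At).left (pullback.snd At.hom A.hom)
      (pullback.fst A.hom At.hom) := (sq12 At A At).map (Over.forget _)
  have s2 : IsPullback (mm At A).left (t13 At A At).left (pullback.fst At.hom A.hom)
      (fst At At * snd At At).left := (sqM At A).map (Over.forget _)
  have s3 : IsPullback (toUnit At).left (lift (𝟙 At) (𝟙 At)⁻¹).left η[At].left (fst At At * snd At At).left :=
    (sqj At).map (Over.forget _)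
  refine FMInv.comp_main (W := pullback At.hom A.hom) (W' := pullback A.hom At.hom) s1 (v₁ := (fst At At).left) (v₂ := (snd At At).left) s2 ?_ ?_ s3 ?_ ?_ inv_comp_inv
    (inv_swp hP) hP e n hR
  · exact congrArg CommaMorphism.left (show t13 At A At ≫ fst At At = t12 At A At ≫ fst At A by simp)
  · exact congrArg CommaMorphism.left (show t13 At A At ≫ snd At At = t23 At A At ≫ snd A At by simp)
  · exact congrArg CommaMorphism.left (show lift (𝟙 At) (𝟙 At)⁻¹ ≫ fst At At = 𝟙 At by simp)
  · exact congrArg CommaMorphism.left (show lift (𝟙 At) (𝟙 At)⁻¹ ≫ snd At At = (𝟙 At)⁻¹ by simp)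

end Main

end K232.FMAV
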