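import Groth.Agent.AbVar.K232.FMAV

/-!
# The Fourier–Mukai functor of an abelian variety is an equivalence, modulo `Rpr_* P`
-/

set_option autoImplicit false

universe u

open CategoryTheory CategoryTheory.Limits MonoidalCategory CartesianMonoidalCategory MonObj GrpObj
  AlgebraicGeometry

attribute [local instance] HasDerivedCategory.standard

namespace K232.FMEquiv

open Groth.Agent K353.OnSub K353.Calc K353.Conv K232.FMAV

section Abs

/-- A functor on full subcategories which is an equivalence. -/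
theorem isEquivalence_of {C D : Type*} [Category C] [Category D] (P : ObjectProperty C) (Q : ObjectProperty D)
    [P.IsClosedUnderIsomorphisms] [Q.IsClosedUnderIsomorphisms] (Φ : C ⥤ D) (Ψ : D ⥤ C)
    (T : C ⥤ C) (T' : D ⥤ D) [T.IsEquivalence] [T'.IsEquivalence]
    (hT : ∀ X, P (T.obj X) → P X) (hT' : ∀ X, Q (T'.obj X) → Q X)
    (hΨ : ∀ X, Q X → P (Ψ.obj X))
    (h1 : IsoOn P (Φ ⋙ Ψ) T) (h2 : IsoOn Q (Ψ ⋙ Φ) T')
    (F : P.FullSubcategory ⥤ Q.FullSubcategory) (e : F ⋙ Q.ι ≅ P.ι ⋙ Φ) : F.IsEquivalence := by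
  let G : Q.FullSubcategory ⥤ P.FullSubcategory := P.lift (Q.ι ⋙ Ψ) (fun X => hΨ X.obj X.property)
  have eG : G ⋙ P.ι ≅ Q.ι ⋙ Ψ := Iso.refl _
  obtain ⟨i1⟩ := h1
  obtain ⟨i2⟩ := h2
  refine EquivAbs.isEquivalence_of_comp F G
    (EquivAbs.isEquivalence_of_ι P T hT (F ⋙ G) ?_) (EquivAbs.isEquivalence_of_ι Q T' hT' (G ⋙ F) ?_)
  · exact Functor.isoWhiskerLeft F eG ≪≫ Functor.isoWhiskerRight e Ψ ≪≫ i1
  · exact Functor.isoWhiskerLeft G e ≪≫ Functor.isoWhiskerRight eG Φ ≪≫ i2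

end Abs

section T

variable {X : Scheme.{u}} (ν : X ⟶ X) (hν : ν ≫ ν = 𝟙 X) [DCoh.HasLpull ν] (n : ℤ)

include hν in
theorem isEquivalence_T : (DCoh.Lpull ν ⋙ shiftFunctor (DCoh.D X) n).IsEquivalence := by
  have : (DCoh.Lpull ν).IsEquivalence := (K512.FMIso.pullEquiv ν ν hν hν).isEquivalence_functor
  infer_instance

include hν in
theorem qc_of_T (K : DCoh.D X) (h : qc X ((DCoh.Lpull ν ⋙ shiftFunctor (DCoh.D X) n).obj K)) : qc X K := by
  have h1 : qc X ((((DCoh.Lpull ν).obj K)⟦n⟧)⟦-n⟧) := PerfA.QCohD.isQCohD_shift h (-n)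
  have h2 : qc X ((DCoh.Lpull ν).obj K) :=
    PerfA.QCohD.isQCohD_of_iso ((shiftFunctorCompIsoId (DCoh.D X) n (-n) (by omega)).app _) h1
  have h3 := qc_lpull ν _ h2
  exact PerfA.QCohD.isQCohD_of_iso ((K512.FMIso.pullEquiv ν ν hν hν).unitIso.app K).symm h3

end T

theorem qc_fm {W X Y : Scheme.{u}} (p : W ⟶ X) (q : W ⟶ Y) [QuasiCompact q] [QuasiSeparated q]
    [DCoh.HasLpull p] [DCoh.HasRpush q] {K : DCoh.D W} (hK : qc W K) (L : DCoh.D X) (hL : qc X L) :
    qc Y ((fm p q K).obj L) :=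
  qc_rpush q _ (qc_tensor _ _ (qc_lpull p L hL) hK)

section Main

variable {k : Type u} [Field k] {A At : Over (Spec (CommRingCat.of k))} [GrpObj A] [IsProper A.hom]
  [Smooth A.hom] [GeometricallyConnected A.hom] [GrpObj At] [IsProper At.hom] [Smooth At.hom]
  [GeometricallyConnected At.hom]

omit [GrpObj A] [IsProper A.hom] [Smooth A.hom] [GeometricallyConnected A.hom] [GrpObj At] [IsProper At.hom]
  [Smooth At.hom] [GeometricallyConnected At.hom] in
/-- Exchange of the factors. -/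
theorem rpush_swp {P : (pullback A.hom At.hom).Modules} (hP : PicF.IsInvertible P) {K : DCoh.D At.left}
    [DCoh.HasRpush (pullback.snd A.hom At.hom)] [DCoh.HasRpush (pullback.fst At.hom A.hom)]
    (h : Nonempty ((DCoh.Rpush (pullback.snd A.hom At.hom)).obj (DCoh.inD _ P) ≅ K)) :
    Nonempty ((DCoh.Rpush (pullback.fst At.hom A.hom)).obj (DCoh.inD _ (swp P)) ≅ K) := by
  obtain ⟨h⟩ := h
  let s := (pullbackSymmetry At.hom A.hom).hom
  let t := (pullbackSymmetry At.hom A.hom).inv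
  have := hasLpull s
  have := hasLpull t
  have := hasRpush s
  have := hasLpull (𝟙 (pullback A.hom At.hom))
  obtain ⟨e1⟩ := rpush_comp s (pullback.snd A.hom At.hom) (pullback.fst At.hom A.hom)
    (pullbackSymmetry_hom_comp_snd _ _)
  obtain ⟨e2⟩ := FMInv.nonempty_lpull s hP
  have hst : s ≫ t = 𝟙 _ := (pullbackSymmetry At.hom A.hom).hom_inv_id
  have hts : t ≫ s = 𝟙 _ := (pullbackSymmetry At.hom A.hom).inv_hom_id
  have e3 : DCoh.Lpull s ⋙ DCoh.Rpush s ≅ 𝟭 _ :=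
    Functor.isoWhiskerLeft _ (K512.FMIso.pushIso s t hst hts) ≪≫
      K512.FMIso.pullCompOf t s (𝟙 _) hts ≪≫ K512.FMIso.pullId
  exact ⟨(e1.app _).symm ≪≫ (DCoh.Rpush (pullback.snd A.hom At.hom)).mapIso
    ((DCoh.Rpush s).mapIso e2.symm ≪≫ e3.app _) ≪≫ h⟩

variable {φ : ∀ T : Over (Spec (CommRingCat.of k)), PicF.Cl (PicF.XT A.hom T) → (T ⟶ At)}
  (hφ : AbDual.IsDualAV Scheme.fppfPrecoverage A At φ)
  {P : (pullback A.hom At.hom).Modules} (hP : PicF.IsInvertible P)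
  (hPξ : AbDual.IsPoincareCl A At φ (PicF.cl P))

include hφ hP hPξ in
theorem isEquivalence_fm (n n' : ℤ)
    [DCoh.HasLpull (pullback.fst A.hom At.hom)] [DCoh.HasRpush (pullback.snd A.hom At.hom)]
    [DCoh.HasRpush (pullback.fst A.hom At.hom)] [DCoh.HasRpush η[A].left] [DCoh.HasRpush η[At].left]
    (hR : Nonempty ((DCoh.Rpush (pullback.fst A.hom At.hom)).obj (DCoh.inD _ P) ≅
      ((DCoh.Rpush η[A].left).obj (DCoh.inD _ (Coh.structureModule (Spec (CommRingCat.of k)))))⟦n⟧))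
    (hR' : Nonempty ((DCoh.Rpush (pullback.snd A.hom At.hom)).obj (DCoh.inD _ P) ≅
      ((DCoh.Rpush η[At].left).obj (DCoh.inD _ (Coh.structureModule (Spec (CommRingCat.of k)))))⟦n'⟧))
    (F : (qc A.left).FullSubcategory ⥤ (qc At.left).FullSubcategory)
    (e : F ⋙ (qc At.left).ι ≅ (qc A.left).ι ⋙
      fm (pullback.fst A.hom At.hom) (pullback.snd A.hom At.hom) (DCoh.inD _ P)) : F.IsEquivalence := by
  have := hasLpull (pullback.fst At.hom A.hom)
  have := hasRpush (pullback.snd At.hom A.hom)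
  have := hasRpush (pullback.fst At.hom A.hom)
  have := hasLpull ((𝟙 A)⁻¹).left
  have := hasLpull ((𝟙 At)⁻¹).left
  have i1 := isEquivalence_T ((𝟙 A)⁻¹).left inv_comp_inv n
  have i2 := isEquivalence_T ((𝟙 At)⁻¹).left inv_comp_inv n'
  have q1 := qc_of_T ((𝟙 A)⁻¹).left inv_comp_inv n
  have q2 := qc_of_T ((𝟙 At)⁻¹).left inv_comp_inv n'
  have m1 := mukai hφ hP hPξ n hR
  have m2 := mukai' hφ hP hPξ n' (rpush_swp hP hR')
  have f2 := qc_fm (pullback.fst At.hom A.hom) (pullback.snd At.hom A.hom) (FMInv.qc_inD (inv_swp hP))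
  generalize fm (pullback.fst A.hom At.hom) (pullback.snd A.hom At.hom) (DCoh.inD _ P) = Φ at *
  generalize fm (pullback.fst At.hom A.hom) (pullback.snd At.hom A.hom) (DCoh.inD _ (swp P)) = Ψ at *
  generalize (DCoh.Lpull ((𝟙 A)⁻¹).left ⋙ shiftFunctor (DCoh.D A.left) n) = T at *
  generalize (DCoh.Lpull ((𝟙 At)⁻¹).left ⋙ shiftFunctor (DCoh.D At.left) n') = T' at *
  exact isEquivalence_of (qc A.left) (qc At.left) Φ Ψ T T' q1 q2 f2 m1 m2 F e

end Main

end K232.FMEquiv
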