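import Groth.Agent.AbVar.K232.FMEquiv
import Groth.Agent.AbVar.K232.FMConc

/-!
# Mukai's theorems from the direct images of the Poincaré module

`PC q e₀ P g` is the statement `Rq_* P = (e₀_* O)[-g]` on the level of the sheaves `Rⁱq_* P`.
`conv_iso` and `isEquivalence` are the statements of Mukai's inversion theorem and of his equivalence theorem
for the functors `Lp^* ⋙ (- ⊗ P) ⋙ Rq_*` modulo `PC` for both projections.
-/

set_option autoImplicit false

universe u

open CategoryTheory CategoryTheory.Limits MonoidalCategory CartesianMonoidalCategory MonObj GrpObj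
  AlgebraicGeometry

attribute [local instance] HasDerivedCategory.standard

namespace K232.FMFinal

open Groth.Agent K353.OnSub K353.Calc K353.Conv K232.FMAV K232.FMEquiv

variable {k : Type u} [Field k]

/-- The higher direct images of `P` are concentrated in degree `g`, where they are `e₀_* O`. -/
def PC {W Y : Scheme.{u}} (q : W ⟶ Y) (e₀ : Spec (CommRingCat.of k) ⟶ Y) (P : W.Modules) (g : ℕ)
    [HasInjectiveResolutions W.Modules] : Prop :=
  (∀ i : ℕ, i ≠ g → IsZero ((Coh.Rpush q i).obj P)) ∧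
    Nonempty ((Coh.Rpush q g).obj P ≅ (Coh.push e₀).obj (Coh.structureModule (Spec (CommRingCat.of k))))

theorem PC.rpush {W Y : Scheme.{u}} {q : W ⟶ Y} {e₀ : Spec (CommRingCat.of k) ⟶ Y} [IsAffineHom e₀]
    {P : W.Modules} {g : ℕ} [HasInjectiveResolutions W.Modules] (h : PC q e₀ P g) [DCoh.HasRpush q]
    [DCoh.HasRpush e₀] :
    Nonempty ((DCoh.Rpush q).obj (DCoh.inD W P) ≅
      ((DCoh.Rpush e₀).obj (DCoh.inD _ (Coh.structureModule (Spec (CommRingCat.of k)))))⟦-(g : ℤ)⟧) := by
  obtain ⟨h0, ⟨e⟩⟩ := h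
  exact FMConc.rpush_conc' q P g h0 e₀ _ (PerfA.QCohSerre.isQCoh_unit _) e

theorem isAffineHom_unit (A : Over (Spec (CommRingCat.of k))) [GrpObj A] [IsSeparated A.hom] :
    IsAffineHom (X := Spec (CommRingCat.of k)) η[A].left := by
  have h : (η[A].left : Spec (CommRingCat.of k) ⟶ A.left) ≫ A.hom = 𝟙 _ := Over.w η[A]
  have : IsClosedImmersion ((η[A].left : Spec (CommRingCat.of k) ⟶ A.left) ≫ A.hom) := by
    rw [h]; infer_instance
  have : IsClosedImmersion (η[A].left : Spec (CommRingCat.of k) ⟶ A.left) :=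
    IsClosedImmersion.of_comp _ A.hom
  infer_instance

section Main

variable {A At : Over (Spec (CommRingCat.of k))} [GrpObj A] [IsProper A.hom]
  [Smooth A.hom] [GeometricallyConnected A.hom] [GrpObj At] [IsProper At.hom] [Smooth At.hom]
  [GeometricallyConnected At.hom]
variable {φ : ∀ T : Over (Spec (CommRingCat.of k)), PicF.Cl (PicF.XT A.hom T) → (T ⟶ At)}
  (hφ : AbDual.IsDualAV Scheme.fppfPrecoverage A At φ)
  {P : (pullback A.hom At.hom).Modules} (hP : PicF.IsInvertible P)
  (hPξ : AbDual.IsPoincareCl A At φ (PicF.cl P))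

include hφ hP hPξ in
/-- **Mukai's inversion theorem** from `PC` for the first projection. -/
theorem conv_iso (g : ℕ) [HasInjectiveResolutions (pullback A.hom At.hom).Modules]
    (h1 : PC (pullback.fst A.hom At.hom) η[A].left P g)
    [DCoh.HasLpull (pullback.fst A.hom At.hom)] [DCoh.HasLTensorMod P] [DCoh.HasRpush (pullback.snd A.hom At.hom)]
    [DCoh.HasLpull (pullback.fst At.hom A.hom)]
    [DCoh.HasLTensorMod ((Scheme.Modules.pullback (pullbackSymmetry At.hom A.hom).hom).obj P)]
    [DCoh.HasRpush (pullback.snd At.hom A.hom)] [DCoh.HasLpull ((𝟙 A)⁻¹).left] :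
    Nonempty (ObjectProperty.ι (DCoh.IsQCohD (X := A.left)) ⋙ (DCoh.Lpull (pullback.fst A.hom At.hom) ⋙ DCoh.LTensorMod P ⋙ DCoh.Rpush (pullback.snd A.hom At.hom)) ⋙
        (DCoh.Lpull (pullback.fst At.hom A.hom) ⋙
          DCoh.LTensorMod ((Scheme.Modules.pullback (pullbackSymmetry At.hom A.hom).hom).obj P) ⋙
          DCoh.Rpush (pullback.snd At.hom A.hom)) ≅
      ObjectProperty.ι (DCoh.IsQCohD (X := A.left)) ⋙ DCoh.Lpull ((𝟙 A)⁻¹).left ⋙
        shiftFunctor (DCoh.D A.left) (-(g : ℤ))) := by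
  have := hasRpush (pullback.fst A.hom At.hom)
  have : DCoh.HasRpush (X := Spec (CommRingCat.of k)) η[A].left := hasRpush _
  have : DCoh.HasRpush η[A].left := hasRpush _
  have : IsAffineHom (X := Spec (CommRingCat.of k)) η[A].left := isAffineHom_unit A
  obtain ⟨a⟩ := FMInv.fm_mod (pullback.fst A.hom At.hom) (pullback.snd A.hom At.hom) hP
  obtain ⟨b⟩ := FMInv.fm_mod (pullback.fst At.hom A.hom) (pullback.snd At.hom A.hom) (inv_swp hP)
  have m := mukai hφ hP hPξ (-(g : ℤ)) h1.rpush
  exact m.congr (Functor.isoWhiskerRight a.symm _ ≪≫ Functor.isoWhiskerLeft _ b.symm) (Iso.refl _)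

include hφ hP hPξ in
/-- **Mukai's inversion theorem**, the other composite, from `PC` for the second projection. -/
theorem conv_iso' (g : ℕ) [HasInjectiveResolutions (pullback A.hom At.hom).Modules]
    (h2 : PC (pullback.snd A.hom At.hom) η[At].left P g)
    [DCoh.HasLpull (pullback.fst A.hom At.hom)] [DCoh.HasLTensorMod P] [DCoh.HasRpush (pullback.snd A.hom At.hom)]
    [DCoh.HasLpull (pullback.fst At.hom A.hom)]
    [DCoh.HasLTensorMod ((Scheme.Modules.pullback (pullbackSymmetry At.hom A.hom).hom).obj P)]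
    [DCoh.HasRpush (pullback.snd At.hom A.hom)] [DCoh.HasLpull ((𝟙 At)⁻¹).left] :
    Nonempty (ObjectProperty.ι (DCoh.IsQCohD (X := At.left)) ⋙
        (DCoh.Lpull (pullback.fst At.hom A.hom) ⋙
          DCoh.LTensorMod ((Scheme.Modules.pullback (pullbackSymmetry At.hom A.hom).hom).obj P) ⋙
          DCoh.Rpush (pullback.snd At.hom A.hom)) ⋙
        (DCoh.Lpull (pullback.fst A.hom At.hom) ⋙ DCoh.LTensorMod P ⋙ DCoh.Rpush (pullback.snd A.hom At.hom)) ≅
      ObjectProperty.ι (DCoh.IsQCohD (X := At.left)) ⋙ DCoh.Lpull ((𝟙 At)⁻¹).left ⋙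
        shiftFunctor (DCoh.D At.left) (-(g : ℤ))) := by
  have := hasRpush (pullback.fst At.hom A.hom)
  have : DCoh.HasRpush (X := Spec (CommRingCat.of k)) η[At].left := hasRpush _
  have : DCoh.HasRpush η[At].left := hasRpush _
  have : IsAffineHom (X := Spec (CommRingCat.of k)) η[At].left := isAffineHom_unit At
  obtain ⟨a⟩ := FMInv.fm_mod (pullback.fst A.hom At.hom) (pullback.snd A.hom At.hom) hP
  obtain ⟨b⟩ := FMInv.fm_mod (pullback.fst At.hom A.hom) (pullback.snd At.hom A.hom) (inv_swp hP)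
  have m := mukai' hφ hP hPξ (-(g : ℤ)) (rpush_swp hP h2.rpush)
  exact m.congr (Functor.isoWhiskerRight b.symm _ ≪≫ Functor.isoWhiskerLeft _ a.symm) (Iso.refl _)

include hφ hP hPξ in
/-- **Mukai's equivalence** from `PC` for both projections. -/
theorem isEquivalence (g g' : ℕ) [HasInjectiveResolutions (pullback A.hom At.hom).Modules]
    (h1 : PC (pullback.fst A.hom At.hom) η[A].left P g)
    (h2 : PC (pullback.snd A.hom At.hom) η[At].left P g')
    [DCoh.HasLpull (pullback.fst A.hom At.hom)] [DCoh.HasLTensorMod P] [DCoh.HasRpush (pullback.snd A.hom At.hom)]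
    (h : ∀ M : DCoh.D A.left, DCoh.IsQCohD M → DCoh.IsQCohD ((DCoh.Lpull (pullback.fst A.hom At.hom) ⋙ DCoh.LTensorMod P ⋙ DCoh.Rpush (pullback.snd A.hom At.hom)).obj M)) :
    (ObjectProperty.lift (DCoh.IsQCohD (X := At.left))
        (ObjectProperty.ι (DCoh.IsQCohD (X := A.left)) ⋙ (DCoh.Lpull (pullback.fst A.hom At.hom) ⋙ DCoh.LTensorMod P ⋙ DCoh.Rpush (pullback.snd A.hom At.hom)))
        (fun M => h M.obj M.property)).IsEquivalence := by
  have := hasRpush (pullback.fst A.hom At.hom)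
  have : DCoh.HasRpush (X := Spec (CommRingCat.of k)) η[A].left := hasRpush _
  have : DCoh.HasRpush η[A].left := hasRpush _
  have : IsAffineHom (X := Spec (CommRingCat.of k)) η[A].left := isAffineHom_unit A
  have : DCoh.HasRpush (X := Spec (CommRingCat.of k)) η[At].left := hasRpush _
  have : DCoh.HasRpush η[At].left := hasRpush _
  have : IsAffineHom (X := Spec (CommRingCat.of k)) η[At].left := isAffineHom_unit At
  obtain ⟨a⟩ := FMInv.fm_mod (pullback.fst A.hom At.hom) (pullback.snd A.hom At.hom) hP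
  exact isEquivalence_fm hφ hP hPξ (-(g : ℤ)) (-(g' : ℤ)) h1.rpush h2.rpush _
    (Functor.isoWhiskerLeft (ObjectProperty.ι (DCoh.IsQCohD (X := A.left))) a)

end Main

end K232.FMFinal
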