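import Groth.Agent.DEquiv.K353.Conv
import Groth.Agent.AbVar.K512.FMPull
import Groth.Agent.Dual.H492.TensShift
import Groth.Agent.Dcoh.DualX
import Groth.Agent.PerfB.FibreConc

/-!
# Fourier–Mukai functors with invertible kernel: composition and base change on `D_QCoh`

* `nonempty_ltMod`: `- ⊗^L M ≅ - ⊗ M[0]` for `M` invertible;
* `nonempty_lpull`: `Lf^* (L[0]) ≅ (f^* L)[0]`; `nonempty_tensor`: `L[0] ⊗ M[0] ≅ (L ⊗ M)[0]`;
* `push_main`: `Φ_B ∘ Rf_* ≅ L(f^t)^* ∘ Φ_A`;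
* `comp_main`: `Φ_{P'} ∘ Φ_P ≅ (L(-1)^*)[-g]`, abstract form.
-/

set_option autoImplicit false

universe u

open CategoryTheory CategoryTheory.Limits AlgebraicGeometry MonoidalCategory

attribute [local instance] HasDerivedCategory.standard

open scoped Groth.Agent.Dcoh.MonCat Groth.Agent.Dcoh.ModD

namespace K232.FMInv

open K353.OnSub K353.Calc K353.Conv Groth.Agent Groth.Agent.Dcoh Groth.Agent.PerfB.TensExact
  Groth.Agent.PerfB.TensInv

variable {X Y W : Scheme.{u}}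

/-- `- ⊗^L M` is `- ⊗ M[0]`. -/
theorem nonempty_ltMod {M : X.Modules} (hM : PicF.IsInvertible M) [DCoh.HasLTensorMod M] :
    Nonempty (DCoh.LTensorMod M ≅ tensorRight (DCoh.inD X M)) := by
  have := K512.FMIso.pfl hM
  obtain ⟨s⟩ := LTMod.nonempty_singleIso' M
  let E : CochainComplex X.Modules ℤ := (HomologicalComplex.single X.Modules (ComplexShape.up ℤ) 0).obj M
  let F : CochainComplex X.Modules ℤ ⥤ DerivedCategory X.Modules :=
    (DCoh.tensorRightMod M).mapHomologicalComplex (ComplexShape.up ℤ) ⋙ DerivedCategory.Q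
  let e : F ≅ tensorRight E ⋙ DerivedCategory.Q :=
    Functor.isoWhiskerRight s DerivedCategory.Q ≪≫ ModTens.tensorCxQIso E
  have := Functor.isLeftDerivedFunctor_of_inverts
    (HomologicalComplex.quasiIso X.Modules (ComplexShape.up ℤ))
    ((DCoh.tensorRightMod M).mapDerivedCategory)
    (DCoh.tensorRightMod M).mapDerivedCategoryFactors
  exact ⟨LTensorModIso M ≪≫ MonDer.derivedIso (ModD.KF X) E F e ((DCoh.tensorRightMod M).mapDerivedCategory)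
    (DCoh.tensorRightMod M).mapDerivedCategoryFactors.hom⟩

/-- The Fourier–Mukai functor of an invertible module. -/
theorem fm_mod (p : W ⟶ X) (q : W ⟶ Y) [DCoh.HasLpull p] [DCoh.HasRpush q] {P : W.Modules}
    (hP : PicF.IsInvertible P) [DCoh.HasLTensorMod P] :
    Nonempty ((DCoh.Lpull p ⋙ DCoh.LTensorMod P ⋙ DCoh.Rpush q) ≅ fm p q (DCoh.inD W P)) := by
  obtain ⟨e⟩ := nonempty_ltMod hP
  exact ⟨Functor.isoWhiskerLeft _ (Functor.isoWhiskerRight e _)⟩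

theorem isFinLocFree_of_isInvertible {L : X.Modules} (hL : PicF.IsInvertible L) : FlatMod.IsFinLocFree L := by
  intro x
  obtain ⟨U, hU, ⟨e⟩⟩ := hL x
  refine ⟨U, 1, hU, ⟨e ≪≫ ?_⟩⟩
  exact (Limits.coproductUniqueIso (fun _ : Fin 1 => Coh.structureModule (↑U : Scheme.{u}))).symm

/-- `Lf^* (L[0]) ≅ (f^* L)[0]`. -/
theorem nonempty_lpull (f : X ⟶ Y) {L : Y.Modules} (hL : PicF.IsInvertible L) [DCoh.HasLpull f] :
    Nonempty ((DCoh.Lpull f).obj (DCoh.inD Y L) ≅ DCoh.inD X ((Scheme.Modules.pullback f).obj L)) :=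
  ⟨PerfB.FibreConc.lpullSg f 0 (isFinLocFree_of_isInvertible hL)⟩

/-- `L[0] ⊗ M[0] ≅ (L ⊗ M)[0]`. -/
theorem nonempty_tensor {L M : X.Modules} (hL : PicF.IsInvertible L) (hM : PicF.IsInvertible M) :
    Nonempty (DCoh.inD X L ⊗ DCoh.inD X M ≅ DCoh.inD X (CohB1.tensorMod L M)) := by
  have := hasLTensorMod_of_isInvertible hM
  obtain ⟨e⟩ := nonempty_ltMod hM
  exact ⟨(e.app (DCoh.inD X L)).symm ≪≫ K512.FMPull.tensInD hL hM⟩

lemma qc_inD {L : X.Modules} (hL : PicF.IsInvertible L) : qc X (DCoh.inD X L) :=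
  PerfB.StructFlat.isQCohD_inD (PerfB.TensInv.isQCoh_of_isInvertible hL)

/-- `- ⊗ O[n] ≅ -[n]`. -/
theorem nonempty_unit_shift (n : ℤ) :
    Nonempty (tensorRight ((DCoh.inD X (Coh.structureModule X))⟦n⟧) ≅ shiftFunctor (DCoh.D X) n) := by
  obtain ⟨e⟩ := Dual.H492.TensShift.nonempty_shift_unit (X := X) n
  exact ⟨(tensoringRight (DCoh.D X)).mapIso ((shiftFunctor (DCoh.D X) n).mapIso (DualX.unitIso X)) ≪≫ e⟩

/-- **Direct image and Fourier–Mukai functors**: `Φ_B ∘ Rf_* ≅ L(f^t)^* ∘ Φ_A`, abstract form. -/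
theorem push_main {A B At Bt WA WB V : Scheme.{u}} {f : A ⟶ B} {ft : Bt ⟶ At} {pB : WB ⟶ B} {qB : WB ⟶ Bt}
    {pA : WA ⟶ A} {qA : WA ⟶ At} {v : V ⟶ A} {w : V ⟶ Bt} {F : V ⟶ WB} {G : V ⟶ WA}
    (sq1 : IsPullback v F f pB) (h1 : F ≫ qB = w) (sq2 : IsPullback G w qA ft) (h2 : G ≫ pA = v)
    [Flat pB] [Flat qA] [QuasiCompact f] [QuasiSeparated f] [QuasiCompact qA] [QuasiSeparated qA]
    {PA : WA.Modules} (hPA : PicF.IsInvertible PA) {PB : WB.Modules} (hPB : PicF.IsInvertible PB)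
    (e : (Scheme.Modules.pullback F).obj PB ≅ (Scheme.Modules.pullback G).obj PA)
    [DCoh.HasRpush f] [DCoh.HasLpull pB] [DCoh.HasRpush qB] [DCoh.HasLpull pA] [DCoh.HasRpush qA]
    [DCoh.HasLpull ft] :
    IsoOn (qc A) (DCoh.Rpush f ⋙ fm pB qB (DCoh.inD WB PB)) (fm pA qA (DCoh.inD WA PA) ⋙ DCoh.Lpull ft) := by
  have := hasLpull v
  have := hasLpull F
  have := hasLpull G
  have := hasRpush w
  have := hasRpush F
  have := hasLpull (𝟙 A)
  have i1 : QuasiCompact F := MorphismProperty.of_isPullback sq1 inferInstance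
  have i2 : QuasiSeparated F := MorphismProperty.of_isPullback sq1 inferInstance
  obtain ⟨c⟩ := rpush_comp F qB w h1
  have b1 : IsoOn (qc A) (DCoh.Rpush f ⋙ DCoh.Lpull pB) (DCoh.Lpull v ⋙ DCoh.Rpush F) :=
    bc (Or.inr inferInstance) sq1
  have b2 : IsoOn (qc A) ((DCoh.Rpush f ⋙ DCoh.Lpull pB) ⋙ (tensorRight (DCoh.inD WB PB) ⋙ DCoh.Rpush qB))
      ((DCoh.Lpull v ⋙ DCoh.Rpush F) ⋙ (tensorRight (DCoh.inD WB PB) ⋙ DCoh.Rpush qB)) :=
    b1.whiskerRight (tensorRight (DCoh.inD WB PB) ⋙ DCoh.Rpush qB)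
  have b3 : IsoOn (qc V) (DCoh.Rpush F ⋙ tensorRight (DCoh.inD WB PB))
      (tensorRight ((DCoh.Lpull F).obj (DCoh.inD WB PB)) ⋙ DCoh.Rpush F) := proj_right F _ (qc_inD hPB)
  have b4 : IsoOn (qc A) (DCoh.Lpull v ⋙ ((DCoh.Rpush F ⋙ tensorRight (DCoh.inD WB PB)) ⋙ DCoh.Rpush qB))
      (DCoh.Lpull v ⋙ ((tensorRight ((DCoh.Lpull F).obj (DCoh.inD WB PB)) ⋙ DCoh.Rpush F) ⋙ DCoh.Rpush qB)) :=
    (b3.whiskerRight (DCoh.Rpush qB)).whiskerLeft (DCoh.Lpull v) (qc_lpull v)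
  obtain ⟨e1⟩ := nonempty_lpull F hPB
  obtain ⟨e2⟩ := nonempty_lpull G hPA
  obtain ⟨e3⟩ := fm_congr v w (e1 ≪≫ K512.FMPull.inDIso e ≪≫ e2.symm)
  have b5 : IsoOn (qc A) (DCoh.Rpush f ⋙ fm pB qB (DCoh.inD WB PB))
      (fm v w ((DCoh.Lpull G).obj (DCoh.inD WA PA))) := by
    refine b2.trans (b4.trans (IsoOn.of_iso ?_))
    exact Functor.isoWhiskerLeft (DCoh.Lpull v ⋙ tensorRight ((DCoh.Lpull F).obj (DCoh.inD WB PB))) c ≪≫ e3
  have b6 := fm_bc (p := pA) (q := qA) (p' := v) (q' := w) (π := 𝟙 A) (ϖ := ft) (h := G)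
    (h2.trans (Category.comp_id v).symm) sq2 (Or.inl inferInstance) (DCoh.inD WA PA) (qc_inD hPA)
  refine b5.trans (IsoOn.trans (IsoOn.of_iso ?_) b6)
  exact (Functor.leftUnitor _).symm ≪≫ Functor.isoWhiskerRight K512.FMIso.pullId.symm _

/-- **Composition of Fourier–Mukai functors**: `Φ_{P'} ∘ Φ_P ≅ (Lν^*)[n]`, abstract form. Here `V = A × A`, `m` its
sum, `T = A × B × A`, and `t^*P ⊗ t'^*P' ≅ M^*P` for `M = (m, pr_B)`; the direct image of `P` is `O[n]` at the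
unit section `e₀`, `j = (1, ν)`. -/
theorem comp_main {A B W W' T V E : Scheme.{u}} {p : W ⟶ A} {q : W ⟶ B} {p' : W' ⟶ B} {q' : W' ⟶ A}
    {t : T ⟶ W} {t' : T ⟶ W'} (sq : IsPullback t t' q p')
    {v₁ v₂ m : V ⟶ A} {r : T ⟶ V} {M : T ⟶ W} (sqM : IsPullback M r p m)
    (h1 : r ≫ v₁ = t ≫ p) (h2 : r ≫ v₂ = t' ≫ q')
    {e₀ : E ⟶ A} {j : A ⟶ V} {a : A ⟶ E} (sqj : IsPullback a j e₀ m)
    {ν : A ⟶ A} (hj1 : j ≫ v₁ = 𝟙 A) (hj2 : j ≫ v₂ = ν) (hν : ν ≫ ν = 𝟙 A)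
    [Flat q] [Flat m] [QuasiCompact q] [QuasiSeparated q] [QuasiCompact p] [QuasiSeparated p]
    [QuasiCompact e₀] [QuasiSeparated e₀]
    {P : W.Modules} (hP : PicF.IsInvertible P) {P' : W'.Modules} (hP' : PicF.IsInvertible P')
    (e : CohB1.tensorMod ((Scheme.Modules.pullback t).obj P) ((Scheme.Modules.pullback t').obj P') ≅
      (Scheme.Modules.pullback M).obj P) (n : ℤ)
    [DCoh.HasLpull p] [DCoh.HasRpush q] [DCoh.HasLpull p'] [DCoh.HasRpush q'] [DCoh.HasRpush p]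
    [DCoh.HasRpush e₀] [DCoh.HasLpull ν]
    (hR : Nonempty ((DCoh.Rpush p).obj (DCoh.inD W P) ≅
      ((DCoh.Rpush e₀).obj (DCoh.inD E (Coh.structureModule E)))⟦n⟧)) :
    IsoOn (qc A) (fm p q (DCoh.inD W P) ⋙ fm p' q' (DCoh.inD W' P'))
      (DCoh.Lpull ν ⋙ shiftFunctor (DCoh.D A) n) := by
  have := hasLpull t
  have := hasLpull t'
  have := hasLpull M
  have := hasLpull m
  have := hasLpull a
  have := hasLpull v₁
  have := hasLpull (t ≫ p)
  have := hasLpull (𝟙 A)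
  have := hasRpush (t' ≫ q')
  have := hasRpush r
  have := hasRpush j
  have := hasRpush v₂
  have := hasRpush ν
  have i1 : QuasiCompact r := MorphismProperty.of_isPullback sqM inferInstance
  have i2 : QuasiSeparated r := MorphismProperty.of_isPullback sqM inferInstance
  have i3 : QuasiCompact j := MorphismProperty.of_isPullback sqj inferInstance
  have i4 : QuasiSeparated j := MorphismProperty.of_isPullback sqj inferInstance
  have htP := Fdesc.LocGen.isInvertible_pullback t hP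
  have htP' := Fdesc.LocGen.isInvertible_pullback t' hP'
  -- composition
  have s1 := fm_comp (K := DCoh.inD W P) (M := DCoh.inD W' P') sq (Or.inl inferInstance) (t ≫ p) (t' ≫ q') rfl rfl
    (qc_inD hP) (qc_inD hP')
  obtain ⟨k1⟩ := nonempty_lpull t hP
  obtain ⟨k2⟩ := nonempty_lpull t' hP'
  obtain ⟨k3⟩ := nonempty_tensor htP htP'
  obtain ⟨k4⟩ := nonempty_lpull M hP
  let C : DCoh.D T := (DCoh.Lpull M).obj (DCoh.inD W P)
  have hC : qc T C := qc_lpull M _ (qc_inD hP)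
  have s2 := IsoOn.of_nonempty (P := qc A) (fm_congr (t ≫ p) (t' ≫ q')
    ((k1 ⊗ᵢ k2) ≪≫ k3 ≪≫ K512.FMPull.inDIso e ≪≫ k4.symm))
  have s3 := fm_push r v₁ v₂ (t ≫ p) (t' ≫ q') h1 h2 C hC
  -- the kernel on `A × A`
  obtain ⟨b1⟩ := (bc (Or.inr inferInstance) sqM).app (qc_inD hP)
  have hO : qc E (DCoh.inD E (Coh.structureModule E)) := qc_inD Fdesc.LocGen.isInvertible_structureModule
  obtain ⟨b2⟩ := (bc (Or.inr inferInstance) sqj).app hO
  obtain ⟨hR⟩ := hR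
  letI := DerPull.lpullCommShift m
  letI := DerSch.rpushCommShift j
  let k5 : (DCoh.Rpush r).obj C ≅
      (DCoh.Rpush j).obj ((DCoh.inD A (Coh.structureModule A))⟦n⟧) :=
    b1.symm ≪≫ (DCoh.Lpull m).mapIso hR ≪≫ ((DCoh.Lpull m).commShiftIso n).app _ ≪≫
      (shiftFunctor _ n).mapIso (b2 ≪≫ (DCoh.Rpush j).mapIso (PerfB.FibreZero.lpullStructure a)) ≪≫
      (((DCoh.Rpush j).commShiftIso n).app _).symm
  have s4 := IsoOn.of_nonempty (P := qc A) (fm_congr v₁ v₂ k5)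
  have hOA : qc A ((DCoh.inD A (Coh.structureModule A))⟦n⟧) :=
    PerfA.QCohD.isQCohD_shift (qc_inD Fdesc.LocGen.isInvertible_structureModule) n
  have s5 := fm_push j v₁ v₂ (𝟙 A) ν hj1 hj2 _ hOA
  -- the last functor
  obtain ⟨u⟩ := nonempty_unit_shift (X := A) n
  letI := DerPull.lpullCommShift ν
  have s6 : IsoOn (qc A) (fm (𝟙 A) ν ((DCoh.inD A (Coh.structureModule A))⟦n⟧))
      (DCoh.Lpull ν ⋙ shiftFunctor (DCoh.D A) n) :=
    IsoOn.of_iso (Functor.isoWhiskerRight K512.FMIso.pullId _ ≪≫ Functor.leftUnitor _ ≪≫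
      Functor.isoWhiskerRight u _ ≪≫ Functor.isoWhiskerLeft _ (K512.FMIso.pushIso ν ν hν hν) ≪≫
      (DCoh.Lpull ν).commShiftIso n)
  exact s1.trans (s2.trans (s3.symm.trans (s4.trans (s5.trans s6))))

end K232.FMInv
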