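import Groth.Agent.AbVar.K232.FMFinal
import Groth.Agent.AbVar.K511.PC1

/-!
# `PC` for both projections of `A × Aᵗ`
-/

set_option autoImplicit false

universe u

open CategoryTheory CategoryTheory.Limits MonoidalCategory CartesianMonoidalCategory MonObj GrpObj
  AlgebraicGeometry

attribute [local instance] HasDerivedCategory.standard

namespace K232.FMPC

open Groth.Agent K232.FMFinal

variable {k : Type u} [Field k] {A At : Over (Spec (CommRingCat.of k))} [GrpObj A] [IsProper A.hom]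
  [Smooth A.hom] [GeometricallyConnected A.hom] [GrpObj At] [IsProper At.hom] [Smooth At.hom]
  [GeometricallyConnected At.hom]
  {φ : ∀ T : Over (Spec (CommRingCat.of k)), PicF.Cl (PicF.XT A.hom T) → (T ⟶ At)}
  (hφ : AbDual.IsDualAV Scheme.fppfPrecoverage A At φ)
  {P : (pullback A.hom At.hom).Modules} (hP : PicF.IsInvertible P)
  (hPξ : AbDual.IsPoincareCl A At φ (PicF.cl P)) (g : ℕ) (hg : topologicalKrullDim ↥A.left = g)

include hφ hP hPξ hg

theorem pc1 [HasInjectiveResolutions (pullback A.hom At.hom).Modules] :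
    PC (pullback.fst A.hom At.hom) η[A].left P g := by
  obtain ⟨ζ, h1, h2, h3, h4⟩ := K732.AV.exists_of_isPoincareCl hPξ
  have hζ : ζ = Grpsch.PicGrp.mk P hP := Fga.RigGrp.toCl_injective h4
  exact ⟨fun i hi => K511.PC1.isZero hφ h1 h2 h3 hP hζ g hg i hi, K511.PC1.nonempty_iso hφ h1 h2 h3 hP hζ g hg⟩

theorem pc2 [HasInjectiveResolutions (pullback A.hom At.hom).Modules] :
    PC (pullback.snd A.hom At.hom) η[At].left P g := by
  obtain ⟨ζ, h1, h2, h3, h4⟩ := K732.AV.exists_of_isPoincareCl hPξ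
  have hζ : ζ = Grpsch.PicGrp.mk P hP := Fga.RigGrp.toCl_injective h4
  exact ⟨fun i hi => K511.PC2.isZero hφ h1 h2 h3 hP hζ g hg i hi, K511.PC2.nonempty_iso hφ h1 h2 h3 hP hζ g hg⟩

end K232.FMPC
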