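import Groth.Agent.AbVar.K232.FMInv
import Groth.Agent.AbDual.K732.Bidual
import Groth.Agent.AbDual.K732.AV

/-!
# Direct images and Fourier–Mukai functors of abelian varieties
-/

set_option autoImplicit false

universe u

open CategoryTheory CategoryTheory.Limits MonoidalCategory CartesianMonoidalCategory MonObj GrpObj
  AlgebraicGeometry

attribute [local instance] HasDerivedCategory.standard

namespace K232.FMPush

open Groth.Agent Groth.Agent.Grpsch.PicGrp Groth.Agent.Fga.RigGrp K732.Cov K732.PicZero K732.RigSheaf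
  K732.Dual K732.Transp K732.CubeSec K732.Prim

section Class

variable {S : Scheme.{u}} {A B At Bt : Over S} [GrpObj A] [GrpObj At] [GrpObj B] [GrpObj Bt]
  {φA : ∀ T : Over S, PicF.Cl (PicF.XT A.hom T) → (T ⟶ At)}
  {φB : ∀ T : Over S, PicF.Cl (PicF.XT B.hom T) → (T ⟶ Bt)}

/-- Pull back along a homomorphism preserves rigidified classes. -/
theorem pull_bcMap_rg (f : A ⟶ B) [IsMonHom f] {T : Over S} {c : Pic (PicF.XT B.hom T)} (hc : c ∈ rg B T) :
    pull (AbDual.bcMap f T) c ∈ rg A T := by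
  rw [mem_rg_iff] at hc ⊢
  rw [ev_bcMap]
  have : (1 : T ⟶ A) ≫ f = 1 := MonObj.one_comp f
  rw [this, hc]

/-- `(f × 1)^* ξ_B = (1 × f^t)^* ξ_A`. -/
theorem pull_eq (hA : AbDual.IsDualAV Scheme.fppfPrecoverage A At φA)
    (hF : ∀ T : Over S, Function.Bijective (PicF.XTproj A.hom T).appTop)
    {ξA : Pic (PicF.XT A.hom At)} (h1 : ξA ∈ pz A.hom At) (h2 : ξA ∈ rg A At) (h3 : cm φA ξA = 𝟙 At)
    {ξB : Pic (PicF.XT B.hom Bt)} (h1' : ξB ∈ pz B.hom Bt) (h2' : ξB ∈ rg B Bt) (h3' : cm φB ξB = 𝟙 Bt)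
    (f : A ⟶ B) [IsMonHom f] {ft : Bt ⟶ At} (hft : AbDual.IsTranspose f φA φB ft) :
    pull (AbDual.bcMap f Bt) ξB = pull (PicF.XTmap A.hom ft) ξA := by
  refine cm_inj hA hF (pull_bcMap_mem f h1') (pull_XTmap_mem _ h1) (pull_bcMap_rg f h2') (pull_mem _ h2) ?_
  rw [hft.cm h1', cm_pull hA _ h1, h3, h3', Category.comp_id, Category.id_comp]

/-- `A ×_S T = A ×_B (B ×_S T)`. -/
theorem isPullback_bcMap {A B : Over S} (f : A ⟶ B) (T : Over S) :
    IsPullback (pullback.fst A.hom T.hom) (AbDual.bcMap f T) f.left (pullback.fst B.hom T.hom) := by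
  have s2 : IsPullback (pullback.fst B.hom T.hom) (pullback.snd B.hom T.hom) B.hom T.hom :=
    IsPullback.of_hasPullback _ _
  refine IsPullback.of_bot (h₁₁ := pullback.fst A.hom T.hom) ?_ (bcMap_fst f T).symm s2
  have e1 : AbDual.bcMap f T ≫ pullback.snd B.hom T.hom = pullback.snd A.hom T.hom := bcMap_XTproj f T
  rw [e1, Over.w f]
  exact IsPullback.of_hasPullback _ _

end Class

end K232.FMPush
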